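import Mathlib
import Cfsg.Agent.Lib.Semisimple.Basic

/-!
Counting `p'`-classes in a group of matrices via characteristic polynomials.
-/

set_option autoImplicit false

namespace Cfsg.Agent.Lib.Semisimple

open Polynomial Matrix

variable {F : Type*} [Field F] {n : ℕ}

/-- The non-leading coefficients of the characteristic polynomial. -/
noncomputable def coeffVec (A : Matrix (Fin n) (Fin n) F) : Fin n → F := fun i => A.charpoly.coeff i

theorem coeffVec_inj {A B : Matrix (Fin n) (Fin n) F} (h : coeffVec A = coeffVec B) : A.charpoly = B.charpoly := by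
  ext i
  rcases Nat.lt_trichotomy i n with hi | hi | hi
  · exact congrFun h ⟨i, hi⟩
  · have hA : A.charpoly.natDegree = n := by rw [Matrix.charpoly_natDegree_eq_dim, Fintype.card_fin]
    have hB : B.charpoly.natDegree = n := by rw [Matrix.charpoly_natDegree_eq_dim, Fintype.card_fin]
    have h1 := A.charpoly_monic.coeff_natDegree
    have h2 := B.charpoly_monic.coeff_natDegree
    rw [hA] at h1; rw [hB] at h2
    rw [hi, h1, h2]
  · rw [coeff_eq_zero_of_natDegree_lt (by rw [Matrix.charpoly_natDegree_eq_dim, Fintype.card_fin]; exact hi),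
      coeff_eq_zero_of_natDegree_lt (by rw [Matrix.charpoly_natDegree_eq_dim, Fintype.card_fin]; exact hi)]

theorem charpoly_conj_eq {A B : Matrix (Fin n) (Fin n) F} (h : IsConj A B) : A.charpoly = B.charpoly := by
  obtain ⟨P, hP⟩ := h
  rw [← Matrix.charpoly_units_conj P A, hP.eq, mul_assoc, ← Matrix.coe_units_inv, Units.mul_inv, mul_one]

/-- A monic polynomial of degree `n` with given lower coefficients. -/
noncomputable def monicOf (v : Fin n → F) : F[X] := X ^ n + ∑ i : Fin n, C (v i) * X ^ (i : ℕ)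

theorem monicOf_spec (v : Fin n → F) :
    (monicOf v).Monic ∧ (monicOf v).natDegree = n ∧ ∀ i : Fin n, (monicOf v).coeff i = v i := by
  have hdeg : (∑ i : Fin n, C (v i) * X ^ (i : ℕ)).degree < (n : WithBot ℕ) :=
    Polynomial.degree_sum_fin_lt v
  have hm : (monicOf v).Monic := monic_X_pow_add hdeg
  refine ⟨hm, natDegree_eq_of_degree_eq_some ?_, fun i => ?_⟩
  · rw [monicOf, degree_add_eq_left_of_degree_lt (by rwa [degree_X_pow]), degree_X_pow]
  · rw [monicOf, coeff_add, coeff_X_pow, if_neg (by omega), zero_add, finsetSum_coeff, Finset.sum_eq_single i]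
    · simp
    · intro j _ hj; rw [coeff_C_mul, coeff_X_pow, if_neg (fun h => hj (Fin.ext h.symm)), mul_zero]
    · simp

theorem model_coeffVec {p : ℕ} [Fact p.Prime] [CharP F p] [Fintype F] (hn : 1 ≤ n) (v : Fin n → F)
    (hv : v ⟨0, hn⟩ ≠ 0) :
    ∃ A : Matrix (Fin n) (Fin n) F, coeffVec A = v ∧ A.det = (-1) ^ n * v ⟨0, hn⟩ ∧
      ∃ o : ℕ, o.Coprime p ∧ A ^ o = 1 := by
  obtain ⟨h1, h2, h3⟩ := monicOf_spec v
  obtain ⟨A, hA, ho, -⟩ := exists_model (p := p) n (monicOf v) h2 h1 (by
    rw [show (0 : ℕ) = ((⟨0, hn⟩ : Fin n) : ℕ) from rfl, h3]; exact hv)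
  refine ⟨A, funext fun i => by rw [coeffVec, hA, h3], ?_, ho⟩
  rw [Matrix.det_eq_sign_charpoly_coeff, hA, Fintype.card_fin]
  exact congrArg ((-1 : F) ^ n * ·) (h3 ⟨0, hn⟩)

/-- Functions on `Fin n` with constrained first value. -/
theorem card_first_constrained [Fintype F] (hn : 1 ≤ n) (P : F → Prop) :
    Nat.card {v : Fin n → F // P (v ⟨0, hn⟩)} = Nat.card {c : F // P c} * Fintype.card F ^ (n - 1) := by
  classical
  obtain ⟨m, rfl⟩ : ∃ m, n = m + 1 := ⟨n - 1, by omega⟩
  let e : {v : Fin (m + 1) → F // P (v ⟨0, hn⟩)} ≃ {c : F // P c} × (Fin m → F) :=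
    { toFun := fun v => (⟨v.1 0, v.2⟩, Fin.tail v.1)
      invFun := fun x => ⟨Fin.cons x.1.1 x.2, x.1.2⟩
      left_inv := fun v => Subtype.ext (Fin.cons_self_tail v.1)
      right_inv := fun x => by simp }
  rw [Nat.card_congr e, Nat.card_prod, Nat.card_eq_fintype_card (α := Fin m → F), Fintype.card_fun,
    Fintype.card_fin, Nat.add_sub_cancel]

/-- Abstract count: classes of `p'`-elements correspond to admissible coefficient vectors. -/
theorem card_classes {p : ℕ} {G : Type*} [Group G] [Finite G] (φ : G →* Matrix (Fin n) (Fin n) F)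
    (S : (Fin n → F) → Prop)
    (hinj : ∀ g h : G, (orderOf g).Coprime p → (orderOf h).Coprime p →
      (φ g).charpoly = (φ h).charpoly → IsConj g h)
    (hinto : ∀ g : G, (orderOf g).Coprime p → S (coeffVec (φ g)))
    (honto : ∀ v, S v → ∃ g : G, (orderOf g).Coprime p ∧ coeffVec (φ g) = v) :
    Nat.card {c : ConjClasses G // ∃ g : G, ConjClasses.mk g = c ∧ (orderOf g).Coprime p} =
      Nat.card {v : Fin n → F // S v} := by
  refine Nat.card_congr (Equiv.ofBijective
    (fun c => ⟨coeffVec (φ c.2.choose), hinto _ c.2.choose_spec.2⟩) ⟨fun c d h => ?_, fun v => ?_⟩)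
  · refine Subtype.ext ?_
    rw [← c.2.choose_spec.1, ← d.2.choose_spec.1, ConjClasses.mk_eq_mk_iff_isConj]
    exact hinj _ _ c.2.choose_spec.2 d.2.choose_spec.2 (coeffVec_inj (congrArg Subtype.val h))
  · obtain ⟨g, hg, hgv⟩ := honto v.1 v.2
    refine ⟨⟨ConjClasses.mk g, g, rfl, hg⟩, Subtype.ext ?_⟩
    have hex : ∃ g' : G, ConjClasses.mk g' = ConjClasses.mk g ∧ (orderOf g').Coprime p := ⟨g, rfl, hg⟩
    have h1 := hex.choose_spec.1
    rw [ConjClasses.mk_eq_mk_iff_isConj] at h1
    show coeffVec (φ hex.choose) = v.1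
    rw [← hgv]
    funext i
    rw [coeffVec, coeffVec, charpoly_conj_eq (φ.map_isConj h1)]

end Cfsg.Agent.Lib.Semisimple
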