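import Mathlib
import Cfsg.Prelude.Def_ClassicalGeometry
import Cfsg.Prelude.Def_GeometricClasses
import Cfsg.Agent.Lib.Forms.Symplectic
import Cfsg.Agent.Lib.LinClasses.SympBasis

/-!
Alternating matrices: congruence to the standard one, and partial isometries between non-degenerate pieces.
-/

set_option autoImplicit false

namespace Cfsg.Agent.Lib.Semisimple

open Matrix

variable {F : Type*} [Field F]

/-- The bilinear form of `S` is alternating. -/
def IsAltMat {ι : Type*} [Fintype ι] (S : Matrix ι ι F) : Prop := ∀ v, v ⬝ᵥ S *ᵥ v = 0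

variable {ι κ : Type*} [Fintype ι] [Fintype κ]

theorem bilin_congr (S : Matrix ι ι F) (X : Matrix ι κ F) (u v : κ → F) :
    u ⬝ᵥ (Xᵀ * S * X) *ᵥ v = (X *ᵥ u) ⬝ᵥ S *ᵥ (X *ᵥ v) := by
  rw [← mulVec_mulVec, ← mulVec_mulVec, dotProduct_mulVec, vecMul_transpose]

theorem IsAltMat.congr {S : Matrix ι ι F} (hS : IsAltMat S) (X : Matrix ι κ F) : IsAltMat (Xᵀ * S * X) :=
  fun v => by rw [bilin_congr]; exact hS _

theorem IsAltMat.skew {S : Matrix ι ι F} (hS : IsAltMat S) (u v : ι → F) : u ⬝ᵥ S *ᵥ v = -(v ⬝ᵥ S *ᵥ u) := by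
  have h := hS (u + v)
  simp only [mulVec_add, dotProduct_add, add_dotProduct] at h
  have hu := hS u
  have hv := hS v
  linear_combination h - hu - hv

theorem IsAltMat.sub_transpose (Q : Matrix ι ι F) : IsAltMat (Q - Qᵀ) := fun v => by
  rw [sub_mulVec, dotProduct_sub, mulVec_transpose, dotProduct_comm v (v ᵥ* Q), ← dotProduct_mulVec, sub_self]

theorem IsAltMat.fromBlocks {S : Matrix ι ι F} {T : Matrix κ κ F} (hS : IsAltMat S) (hT : IsAltMat T) :
    IsAltMat (fromBlocks S 0 0 T) := fun v => by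
  rw [fromBlocks_mulVec]
  simp [dotProduct, Fintype.sum_sum_type]
  have h1 := hS (v ∘ Sum.inl)
  have h2 := hT (v ∘ Sum.inr)
  simp [dotProduct] at h1 h2
  rw [h1, h2, add_zero]

theorem IsAltMat.reindex {S : Matrix ι ι F} (hS : IsAltMat S) (e : ι ≃ κ) : IsAltMat (Matrix.reindex e e S) :=
  fun v => by
  rw [Matrix.reindex_apply, submatrix_mulVec_equiv]
  have h := hS (v ∘ e)
  simp only [dotProduct, Function.comp_apply, Equiv.symm_symm] at h ⊢
  rw [← h]
  exact (Equiv.sum_comp e _).symm.trans (by simp)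

theorem isAltMat_J (n : ℕ) : IsAltMat (Matrix.J (Fin n) F) := fun v => Forms.sympForm_self v

/-- Every non-degenerate alternating matrix is congruent to the standard one. -/
theorem darboux {d : ℕ} (H : Matrix (Fin d) (Fin d) F) (hH : IsAltMat H) (hu : IsUnit H) :
    ∃ b : ℕ, b + b = d ∧ ∃ (Q : Matrix (Fin b ⊕ Fin b) (Fin d) F) (R : Matrix (Fin d) (Fin b ⊕ Fin b) F),
      Q * R = 1 ∧ R * Q = 1 ∧ Qᵀ * Matrix.J (Fin b) F * Q = H := by
  classical
  have hf : Cfsg.Geo.IsSymplecticForm (fun u v : Fin d → F => u ⬝ᵥ H *ᵥ v) := by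
    refine ⟨⟨fun x y v => add_dotProduct _ _ _, fun c x v => smul_dotProduct c x _,
      fun v x y => by simp only [mulVec_add, dotProduct_add],
      fun c v x => by simp only [mulVec_smul, dotProduct_smul, smul_eq_mul]⟩, hH.skew, hH, fun v hv => ?_⟩
    have hne : H *ᵥ v ≠ 0 := fun h => hv (Matrix.mulVec_injective_iff_isUnit.2 hu (by rw [h, mulVec_zero]))
    obtain ⟨i, hi⟩ := Function.ne_iff.1 hne
    have hx : (Pi.single i 1 : Fin d → F) ⬝ᵥ H *ᵥ v ≠ 0 := by
      rw [single_dotProduct, one_mul]; exact hi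
    exact ⟨⟨_, hx⟩, ⟨Pi.single i 1, fun h => hx (by rw [hH.skew, h, neg_zero])⟩⟩
  obtain ⟨b, hb, Φ, hΦ⟩ := LinClasses.exists_symp_basis hf
  rw [Fintype.card_fin] at hb
  let e : Fin 2 × Fin b ≃ Fin b ⊕ Fin b :=
    { toFun := fun p => if p.1 = 0 then Sum.inr p.2 else Sum.inl p.2
      invFun := fun s => Sum.elim (fun j => (1, j)) (fun j => (0, j)) s
      left_inv := by rintro ⟨i, j⟩; fin_cases i <;> simp
      right_inv := by rintro (j | j) <;> simp }
  let Ψ : (Fin b ⊕ Fin b → F) ≃ₗ[F] (Fin d → F) := (LinearEquiv.funCongrLeft F F e).trans Φ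
  let P := LinearMap.toMatrix' Ψ.toLinearMap
  let Q := LinearMap.toMatrix' Ψ.symm.toLinearMap
  have hPQ : P * Q = 1 := by
    rw [← LinearMap.toMatrix'_comp, LinearEquiv.comp_coe, LinearEquiv.symm_trans_self]; simp
  have hQP : Q * P = 1 := by
    rw [← LinearMap.toMatrix'_comp, LinearEquiv.comp_coe, LinearEquiv.self_trans_symm]; simp
  have hP : Pᵀ * H * P = Matrix.J (Fin b) F := by
    refine Matrix.toBilin'.injective (LinearMap.ext fun u => LinearMap.ext fun v => ?_)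
    rw [Matrix.toBilin'_apply', Matrix.toBilin'_apply', bilin_congr]
    have h1 := hΦ ((LinearEquiv.funCongrLeft F F e) u) ((LinearEquiv.funCongrLeft F F e) v)
    show _ = Cfsg.sympForm b F u v
    rw [Forms.sympForm_apply]
    simp only [P, LinearMap.toMatrix'_mulVec]
    refine h1.trans (Finset.sum_congr rfl fun j _ => ?_)
    simp [e, LinearEquiv.funCongrLeft_apply, LinearMap.funLeft_apply]
  refine ⟨b, hb, Q, P, hQP, hPQ, ?_⟩
  calc Qᵀ * Matrix.J (Fin b) F * Q = (P * Q)ᵀ * H * (P * Q) := by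
        rw [← hP, transpose_mul]; simp only [Matrix.mul_assoc]
    _ = H := by rw [hPQ, transpose_one, one_mul, mul_one]

/-- An isometry between the non-degenerate pieces cut out by corresponding idempotents. -/
theorem exists_partial_isometry {n : ℕ} (f f' g gi : Matrix (Fin n ⊕ Fin n) (Fin n ⊕ Fin n) F)
    (hf : f * f = f) (hfJ : fᵀ * Matrix.J (Fin n) F = Matrix.J (Fin n) F * f)
    (hf' : f' * f' = f') (hf'J : f'ᵀ * Matrix.J (Fin n) F = Matrix.J (Fin n) F * f')
    (hg : g * gi = 1) (hgf : g * f = f' * g) :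
    ∃ P, P * f = P ∧ f' * P = P ∧ Pᵀ * Matrix.J (Fin n) F * P = Matrix.J (Fin n) F * f := by
  classical
  set J := Matrix.J (Fin n) F
  have hJ : IsUnit J := (Matrix.isUnit_iff_isUnit_det J).2 (isUnit_det_J (Fin n) F)
  have hgi : gi * g = 1 := mul_eq_one_comm.1 hg
  set U := LinearMap.range f.mulVecLin
  let bU := Module.finBasis F U
  set d := Module.finrank F U
  let E : Matrix (Fin n ⊕ Fin n) (Fin d) F :=
    LinearMap.toMatrix bU (Pi.basisFun F (Fin n ⊕ Fin n)) U.subtype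
  let L : Matrix (Fin d) (Fin n ⊕ Fin n) F :=
    LinearMap.toMatrix (Pi.basisFun F (Fin n ⊕ Fin n)) bU f.mulVecLin.rangeRestrict
  have hEL : E * L = f := by
    rw [← LinearMap.toMatrix_comp, LinearMap.subtype_comp_codRestrict, LinearMap.toMatrix_eq_toMatrix']
    exact LinearMap.toMatrix'_toLin' f
  have hLE : L * E = 1 := by
    rw [← LinearMap.toMatrix_comp]
    have : f.mulVecLin.rangeRestrict ∘ₗ U.subtype = LinearMap.id := LinearMap.ext fun u => Subtype.ext (by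
      obtain ⟨w, hw⟩ := u.2
      show f *ᵥ (u : Fin n ⊕ Fin n → F) = u
      rw [← hw, Matrix.mulVecLin_apply, mulVec_mulVec, hf])
    rw [this, LinearMap.toMatrix_id]
  -- the two Gram matrices
  have gram : ∀ (φ : Matrix (Fin n ⊕ Fin n) (Fin n ⊕ Fin n) F) (E : Matrix (Fin n ⊕ Fin n) (Fin d) F)
      (L : Matrix (Fin d) (Fin n ⊕ Fin n) F), φ * φ = φ → φᵀ * J = J * φ → E * L = φ → L * E = 1 →
      Lᵀ * (Eᵀ * J * E) * L = J * φ ∧ IsAltMat (Eᵀ * J * E) ∧ IsUnit (Eᵀ * J * E) := by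
    intro φ E L hφ hφJ hEL hLE
    have h1 : Lᵀ * (Eᵀ * J * E) * L = J * φ := by
      calc Lᵀ * (Eᵀ * J * E) * L = (E * L)ᵀ * J * (E * L) := by
            rw [transpose_mul]; simp only [Matrix.mul_assoc]
        _ = J * φ := by rw [hEL, hφJ, Matrix.mul_assoc, hφ]
    refine ⟨h1, (isAltMat_J n).congr E, ?_⟩
    rw [Matrix.isUnit_iff_isUnit_det, isUnit_iff_ne_zero, ne_eq, ← Matrix.exists_mulVec_eq_zero_iff]
    rintro ⟨v, hv, hv0⟩
    apply hv
    have h2 : J *ᵥ (φ *ᵥ (E *ᵥ v)) = 0 := by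
      rw [mulVec_mulVec, mulVec_mulVec, ← h1, Matrix.mul_assoc, hLE, Matrix.mul_one, ← mulVec_mulVec, hv0,
        mulVec_zero]
    have h3 : φ *ᵥ (E *ᵥ v) = 0 := Matrix.mulVec_injective_iff_isUnit.2 hJ (by rw [h2, mulVec_zero])
    rw [← hEL, ← mulVec_mulVec, mulVec_mulVec v L E, hLE, one_mulVec] at h3
    have h4 := congrArg (L *ᵥ ·) h3
    simpa [mulVec_mulVec, hLE] using h4
  obtain ⟨h1, ha, hu⟩ := gram f E L hf hfJ hEL hLE
  obtain ⟨-, ha', hu'⟩ := gram f' (g * E) (L * gi) hf' hf'J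
    (by rw [Matrix.mul_assoc g, ← Matrix.mul_assoc E L gi, hEL, ← Matrix.mul_assoc, hgf, Matrix.mul_assoc, hg,
      Matrix.mul_one])
    (by rw [Matrix.mul_assoc, ← Matrix.mul_assoc gi, hgi, Matrix.one_mul, hLE])
  obtain ⟨b, hb, Q, R, hQR, -, hQ⟩ := darboux _ ha hu
  obtain ⟨b', hb', Q', R', hQR', -, hQ'⟩ := darboux _ ha' hu'
  obtain rfl : b = b' := by omega
  have hfE : f' * (g * E) = g * E := by
    rw [← Matrix.mul_assoc, ← hgf, Matrix.mul_assoc, ← hEL, Matrix.mul_assoc, hLE, Matrix.mul_one]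
  refine ⟨g * E * R' * Q * L, ?_, ?_, ?_⟩
  · rw [Matrix.mul_assoc _ L f, show L * f = L by rw [← hEL, ← Matrix.mul_assoc, hLE, Matrix.one_mul]]
  · simp only [← Matrix.mul_assoc] at hfE ⊢
    rw [hfE]
  · calc (g * E * R' * Q * L)ᵀ * J * (g * E * R' * Q * L)
        = Lᵀ * Qᵀ * (R'ᵀ * ((g * E)ᵀ * J * (g * E)) * R') * Q * L := by
          simp only [transpose_mul, Matrix.mul_assoc]
      _ = Lᵀ * Qᵀ * ((Q' * R')ᵀ * Matrix.J (Fin b) F * (Q' * R')) * Q * L := by
          rw [← hQ']; simp only [transpose_mul, Matrix.mul_assoc]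
      _ = Lᵀ * (Qᵀ * Matrix.J (Fin b) F * Q) * L := by
          rw [hQR', transpose_one, Matrix.one_mul, Matrix.mul_one]; simp only [Matrix.mul_assoc]
      _ = J * f := by rw [hQ, h1]

end Cfsg.Agent.Lib.Semisimple
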