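import Mathlib
import Cfsg.Agent.Lib.FormConj.PrimeOrder
import Cfsg.Agent.Lib.Semisimple.UnitaryModel
import Cfsg.Agent.Lib.Semisimple.SympDarboux

/-!
Semisimple symplectic matrices exist for every palindromic characteristic polynomial.
-/

set_option autoImplicit false

namespace Cfsg.Agent.Lib.Semisimple

open Matrix Polynomial

variable {F : Type*} [Field F]

theorem ct_id {m : Type*} (A : Matrix m m F) : ct (RingHom.id F) A = Aᵀ := by
  rw [ct, RingHom.coe_id, Matrix.map_id]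

theorem charpoly_rect {ι κ : Type*} [Fintype ι] [DecidableEq ι] [Fintype κ] [DecidableEq κ] (A : Matrix ι ι F)
    (Q : Matrix κ ι F) (R : Matrix ι κ F) (hRQ : R * Q = 1) (hc : Fintype.card κ = Fintype.card ι) :
    (Q * A * R).charpoly = A.charpoly := by
  have h := Matrix.charpoly_mul_comm' (Q * A) R
  rw [← Matrix.mul_assoc R Q A, hRQ, Matrix.one_mul, hc] at h
  exact mul_left_cancel₀ (pow_ne_zero _ X_ne_zero) h

/-- An isometry of a non-degenerate alternating matrix becomes symplectic. -/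
theorem exists_sp_of_alt {ι : Type*} [Fintype ι] [DecidableEq ι] (A H : Matrix ι ι F) (hH : IsAltMat H)
    (hu : IsUnit H) (hA : Aᵀ * H * A = H) :
    ∃ b : ℕ, b + b = Fintype.card ι ∧ ∃ A' ∈ Matrix.symplecticGroup (Fin b) F,
      A'.charpoly = A.charpoly ∧ ∀ o : ℕ, A ^ o = 1 → A' ^ o = 1 := by
  classical
  set e := Fintype.equivFin ι
  have hH' : IsAltMat (Matrix.reindex e e H) := hH.reindex e
  have hu' : IsUnit (Matrix.reindex e e H) := hu.map (Matrix.reindexAlgEquiv F F e)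
  have hA' : (Matrix.reindex e e A)ᵀ * Matrix.reindex e e H * Matrix.reindex e e A = Matrix.reindex e e H := by
    simp only [Matrix.reindex_apply, Matrix.transpose_submatrix, Matrix.submatrix_mul_equiv, hA]
  set A1 := Matrix.reindex e e A with hA1
  obtain ⟨b, hb, Q, R, hQR, hRQ, hQ⟩ := darboux _ hH' hu'
  refine ⟨b, hb, Q * A1 * R, ?_, ?_, fun o ho => ?_⟩
  · rw [SymplecticGroup.mem_iff']
    calc (Q * A1 * R)ᵀ * Matrix.J (Fin b) F * (Q * A1 * R)
        = Rᵀ * (A1ᵀ * (Qᵀ * Matrix.J (Fin b) F * Q) * A1) * R := by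
          simp only [transpose_mul, Matrix.mul_assoc]
      _ = (Q * R)ᵀ * Matrix.J (Fin b) F * (Q * R) := by
          rw [hQ, hA', ← hQ]; simp only [transpose_mul, Matrix.mul_assoc]
      _ = Matrix.J (Fin b) F := by rw [hQR, transpose_one, Matrix.one_mul, Matrix.mul_one]
  · rw [charpoly_rect A1 Q R hRQ (by simp [hb]), hA1, Matrix.charpoly_reindex]
  · have h1 : A1 ^ o = 1 := by
      rw [hA1, ← Matrix.reindexAlgEquiv_apply F F, ← map_pow, ho, map_one]
    have hp : ∀ j : ℕ, (Q * A1 * R) ^ j = Q * A1 ^ j * R := fun j => by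
      induction j with
      | zero => rw [pow_zero, pow_zero, Matrix.mul_one, hQR]
      | succ j ih =>
        rw [pow_succ, pow_succ, ih]
        calc Q * A1 ^ j * R * (Q * A1 * R) = Q * A1 ^ j * ((R * Q) * (A1 * R)) := by simp only [Matrix.mul_assoc]
          _ = _ := by rw [hRQ, Matrix.one_mul]; simp only [Matrix.mul_assoc]
    rw [hp, h1, Matrix.mul_one, hQR]

theorem dual_X_sub_C_self {c : F} (hc : c * c = 1) : dual (RingHom.id F) (X - C c) = X - C c := by
  have hc0 : c ≠ 0 := left_ne_zero_of_mul_eq_one hc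
  have hci : c⁻¹ = c := inv_eq_of_mul_eq_one_right hc
  have h0 : (X - C c : F[X]).coeff 0 = -c := by simp
  ext i
  rcases i with _ | _ | i
  · rw [dual_coeff_zero _ (monic_X_sub_C c), h0, RingHom.id_apply, inv_neg, hci]
  · rw [dual_coeff _ 1 (by rw [natDegree_X_sub_C]), natDegree_X_sub_C, h0]
    simp [inv_neg, hci, hc, hc0]
  · rw [coeff_eq_zero_of_natDegree_lt (by rw [dual_natDegree _ (by rw [h0]; exact neg_ne_zero.2 hc0), natDegree_X_sub_C]; omega),
      coeff_eq_zero_of_natDegree_lt (by rw [natDegree_X_sub_C]; omega)]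

theorem dual_X_sub_C_pow {c : F} (hc : c * c = 1) (a : ℕ) :
    dual (RingHom.id F) ((X - C c) ^ a) = (X - C c) ^ a := by
  induction a with
  | zero => simp [dual, Polynomial.reverse]
  | succ a ih => rw [pow_succ, dual_mul, ih, dual_X_sub_C_self hc]

theorem eval_ne_zero_isUnit {m : Type*} [Fintype m] [DecidableEq m] (A : Matrix m m F) (c : F)
    (h : A.charpoly.eval c ≠ 0) : IsUnit (A - c • 1) := by
  rw [Matrix.isUnit_iff_isUnit_det, isUnit_iff_ne_zero]
  intro h0
  apply h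
  rw [Matrix.eval_charpoly, show Matrix.scalar m c - A = -(A - c • 1) by
    rw [Matrix.scalar_apply, ← Matrix.smul_one_eq_diagonal]; abel, Matrix.det_neg, h0, mul_zero]

variable [Fintype F] {p : ℕ} [Fact p.Prime] [CharP F p]

/-- The part without eigenvalues `±1`. -/
theorem exists_sp_free (g : F[X]) (hg : g.Monic) (h0 : g.coeff 0 ≠ 0) (hd : dual (RingHom.id F) g = g)
    (h1 : g.eval 1 ≠ 0) (hm1 : g.eval (-1) ≠ 0) :
    ∃ b : ℕ, b + b = g.natDegree ∧ ∃ A ∈ Matrix.symplecticGroup (Fin b) F,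
      A.charpoly = g ∧ ∃ o : ℕ, o.Coprime p ∧ A ^ o = 1 := by
  classical
  obtain ⟨A, hA, ⟨o, ho, hAo⟩, -⟩ := exists_model (p := p) g.natDegree g rfl hg h0
  have hAd : A.det ≠ 0 := by
    rw [Matrix.det_eq_sign_charpoly_coeff, hA]
    exact mul_ne_zero (pow_ne_zero _ (neg_ne_zero.2 one_ne_zero)) h0
  have hAu : IsUnit A := (Matrix.isUnit_iff_isUnit_det A).2 (isUnit_iff_ne_zero.2 hAd)
  set B := (Aᵀ)⁻¹ with hB
  have hBo : B ^ o = 1 := by rw [hB, Matrix.inv_pow', ← transpose_pow, hAo, transpose_one, inv_one]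
  have hBc : B.charpoly = A.charpoly := by
    have h := charpoly_ct_inv (RingHom.id F) A hAd
    rw [ct_id, hA, hd] at h
    rw [hB, h, hA]
  obtain ⟨k, hk⟩ := isConj_of_charpoly_coprime A B ho hAo ho hBo hBc.symm
  have hk' : Aᵀ * (k : Matrix (Fin g.natDegree) (Fin g.natDegree) F) * A = k := by
    rw [Matrix.mul_assoc, hk.eq, hB, ← Matrix.mul_assoc, Matrix.mul_nonsing_inv _
      (by rw [det_transpose]; exact isUnit_iff_ne_zero.2 hAd), Matrix.one_mul]
  obtain ⟨u, rfl⟩ := hAu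
  have hu' : IsUnit ((u : Matrix (Fin g.natDegree) (Fin g.natDegree) F) - (u⁻¹ : GL (Fin g.natDegree) F)) := by
    have e : ((u : Matrix (Fin g.natDegree) (Fin g.natDegree) F) - (u⁻¹ : GL (Fin g.natDegree) F)) =
        ((u : Matrix (Fin g.natDegree) (Fin g.natDegree) F) - (1 : F) • 1) *
          ((u : Matrix (Fin g.natDegree) (Fin g.natDegree) F) - (-1 : F) • 1) *
            (u⁻¹ : GL (Fin g.natDegree) F) := by
      simp only [one_smul, neg_smul, sub_neg_eq_add, sub_mul, mul_add, one_mul, mul_one, add_mul, mul_assoc,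
        Units.mul_inv]
      abel
    rw [e]
    exact ((eval_ne_zero_isUnit _ _ (by rw [hA]; exact h1)).mul
      (eval_ne_zero_isUnit _ _ (by rw [hA]; exact hm1))).mul (Units.isUnit _)
  obtain ⟨Q, H, hH, hHA⟩ := FormConj.exists_form u k hk' hu' (-1) (by norm_num)
  have hHalt : IsAltMat (H : Matrix (Fin g.natDegree) (Fin g.natDegree) F) := by
    rw [hH, show Q + ((-1 : ℤ) : Matrix (Fin g.natDegree) (Fin g.natDegree) F) * Qᵀ = Q - Qᵀ by
      rw [Int.cast_neg, Int.cast_one, neg_one_mul, ← sub_eq_add_neg]]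
    exact IsAltMat.sub_transpose Q
  obtain ⟨b, hb, A', hA', hc, hp⟩ := exists_sp_of_alt _ _ hHalt H.isUnit hHA
  exact ⟨b, by rw [hb, Fintype.card_fin], A', hA', hc.trans hA, o, ho, hp o hAo⟩

/-- A semisimple symplectic matrix with prescribed palindromic characteristic polynomial. -/
theorem exists_sp_model (n : ℕ) (f : F[X]) (hf : f.Monic) (hn : f.natDegree = n + n) (h0 : f.coeff 0 = 1)
    (hd : dual (RingHom.id F) f = f) :
    ∃ A ∈ Matrix.symplecticGroup (Fin n) F, A.charpoly = f ∧ ∃ o : ℕ, o.Coprime p ∧ A ^ o = 1 := by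
  classical
  have hf0 : f ≠ 0 := hf.ne_zero
  obtain ⟨f1, hf1, hf1'⟩ := exists_eq_pow_rootMultiplicity_mul_and_not_dvd f hf0 1
  set a := f.rootMultiplicity 1
  have hm : (X - C (1 : F)).Monic := monic_X_sub_C 1
  have hf1m : f1.Monic := (hm.pow a).of_mul_monic_left (hf1 ▸ hf)
  have hf10 : f1.coeff 0 ≠ 0 := fun h => by
    rw [hf1, mul_coeff_zero, h, mul_zero] at h0
    exact zero_ne_one h0
  have hd1 : dual (RingHom.id F) f1 = f1 := by
    rw [hf1, dual_mul, dual_X_sub_C_pow (mul_one 1)] at hd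
    exact mul_left_cancel₀ (hm.pow a).ne_zero hd
  obtain ⟨f2, hf2, hf2'⟩ := exists_eq_pow_rootMultiplicity_mul_and_not_dvd f1 hf1m.ne_zero (-1)
  set b := f1.rootMultiplicity (-1)
  have hm' : (X - C (-1 : F)).Monic := monic_X_sub_C _
  have hf2m : f2.Monic := (hm'.pow b).of_mul_monic_left (hf2 ▸ hf1m)
  have hf20 : f2.coeff 0 ≠ 0 := fun h => hf10 (by rw [hf2, mul_coeff_zero, h, mul_zero])
  have hd2 : dual (RingHom.id F) f2 = f2 := by
    rw [hf2, dual_mul, dual_X_sub_C_pow (by simp)] at hd1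
    exact mul_left_cancel₀ (hm'.pow b).ne_zero hd1
  have he1 : f2.eval 1 ≠ 0 := fun h => hf1' (dvd_iff_isRoot.2 (by
    rw [IsRoot, hf2, eval_mul, h, mul_zero]))
  have he2 : f2.eval (-1) ≠ 0 := fun h => hf2' (dvd_iff_isRoot.2 h)
  obtain ⟨d, hd', A0, hA0, hA0c, o, ho, hA0o⟩ := exists_sp_free (p := p) f2 hf2m hf20 hd2 he1 he2
  have hdeg : n + n = a + b + (d + d) := by
    have h := hn
    rw [hf1, (hm.pow a).natDegree_mul hf1m, hf2, (hm'.pow b).natDegree_mul hf2m, natDegree_pow, natDegree_pow,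
      natDegree_X_sub_C, natDegree_X_sub_C, mul_one, mul_one, ← hd'] at h
    omega
  have hf2c : f2.coeff 0 = 1 := by
    have h := Matrix.det_eq_sign_charpoly_coeff A0
    rw [SymplecticGroup.det_eq_one hA0, hA0c, Fintype.card_sum, Fintype.card_fin, Even.neg_one_pow ⟨d, rfl⟩,
      one_mul] at h
    exact h.symm
  -- the multiplicities of ±1 are even
  obtain ⟨c, e, hac, hbe⟩ : ∃ c e, a = c + c ∧ b = e + e := by
    suffices h : Even a ∧ Even b by
      obtain ⟨⟨c, hc⟩, ⟨e, he⟩⟩ := h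
      exact ⟨c, e, hc, he⟩
    by_cases h2 : (-1 : F) = 1
    · have hb : b = 0 := rootMultiplicity_eq_zero (fun h => hf1' (dvd_iff_isRoot.2 (h2 ▸ h)))
      refine ⟨?_, hb ▸ ⟨0, rfl⟩⟩
      rw [hb] at hdeg
      exact ⟨n - d, by omega⟩
    · have hpar : (-1 : F) ^ a = 1 := by
        rw [hf1, hf2, mul_coeff_zero, mul_coeff_zero, hf2c, coeff_zero_eq_eval_zero, coeff_zero_eq_eval_zero] at h0
        simpa using h0
      have hae : Even a := by
        rcases Nat.even_or_odd a with h | h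
        · exact h
        · rw [h.neg_one_pow] at hpar; exact absurd hpar h2
      refine ⟨hae, ?_⟩
      have : Even (a + b) := ⟨n - d, by omega⟩
      exact (Nat.even_add.1 this).1 hae
  let S : Matrix _ _ F := fromBlocks A0 0 0
    (fromBlocks (1 : Matrix (Fin c ⊕ Fin c) (Fin c ⊕ Fin c) F) 0 0 (-1 : Matrix (Fin e ⊕ Fin e) (Fin e ⊕ Fin e) F))
  let H : Matrix _ _ F := fromBlocks (Matrix.J (Fin d) F) 0 0
    (fromBlocks (Matrix.J (Fin c) F) 0 0 (Matrix.J (Fin e) F))
  have hH : IsAltMat H := (isAltMat_J d).fromBlocks ((isAltMat_J c).fromBlocks (isAltMat_J e))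
  have hu : IsUnit H := by
    refine IsUnit.of_mul_eq_one (-H) ?_
    simp [H, fromBlocks_neg, fromBlocks_multiply, J_squared, fromBlocks_one]
  have hS : Sᵀ * H * S = H := by
    simp [S, H, fromBlocks_transpose, fromBlocks_multiply, SymplecticGroup.mem_iff'.1 hA0]
  obtain ⟨n', hn', A, hA, hAc, hAo⟩ := exists_sp_of_alt S H hH hu hS
  obtain rfl : n' = n := by
    simp only [Fintype.card_sum, Fintype.card_fin] at hn'
    omega
  refine ⟨A, hA, ?_, ?_⟩
  · rw [hAc]
    simp only [S, Matrix.charpoly_fromBlocks_zero₂₁, hA0c]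
    rw [hf1, hf2, hac, hbe, Matrix.charpoly_one, show (-1 : Matrix (Fin e ⊕ Fin e) (Fin e ⊕ Fin e) F) = diagonal (fun _ => -1) by
      rw [← diagonal_one, diagonal_neg], Matrix.charpoly_diagonal, Finset.prod_const, Finset.card_univ,
      Fintype.card_sum, Fintype.card_sum, Fintype.card_fin, Fintype.card_fin, map_one]
    ring
  · have hpow : ∀ {α β : Type} [Fintype α] [DecidableEq α] [Fintype β] [DecidableEq β] (P : Matrix α α F)
        (Q : Matrix β β F) (j : ℕ), (fromBlocks P 0 0 Q) ^ j = fromBlocks (P ^ j) 0 0 (Q ^ j) := by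
      intro α β _ _ _ _ P Q j
      induction j with
      | zero => simp [fromBlocks_one]
      | succ j ih => rw [pow_succ, ih, fromBlocks_multiply, pow_succ, pow_succ]; simp
    obtain ⟨o', ho', hm1⟩ : ∃ o' : ℕ, o'.Coprime p ∧ (-1 : Matrix (Fin e ⊕ Fin e) (Fin e ⊕ Fin e) F) ^ o' = 1 := by
      by_cases hp : p = 2
      · subst hp
        refine ⟨1, Nat.coprime_one_left 2, ?_⟩
        rw [pow_one]
        ext i j
        exact CharTwo.neg_eq _
      · exact ⟨2, (Nat.coprime_primes Nat.prime_two Fact.out).2 (Ne.symm hp), neg_one_sq⟩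
    refine ⟨o * o', ho.mul_left ho', hAo _ ?_⟩
    simp only [S, hpow]
    rw [pow_mul, hA0o, one_pow, one_pow, mul_comm, pow_mul, hm1, one_pow, fromBlocks_one, fromBlocks_one]

end Cfsg.Agent.Lib.Semisimple
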