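import Mathlib
import Cfsg.Agent.Lib.FormConj.PrimeOrder
import Cfsg.Agent.Lib.Semisimple.Basic
import Cfsg.Agent.Lib.Semisimple.SympDarboux

/-!
Semisimple elements of the symplectic group with the same characteristic polynomial are conjugate in it.
-/

set_option autoImplicit false

namespace Cfsg.Agent.Lib.Semisimple

open Matrix Cfsg.Agent.Lib.FormConj

section Parts

variable {E : Type*} [Ring E]

/-- The idempotent onto the fixed space of `B ^ 2`, for `B ^ r = 1` and `k r = 1`. -/
def fixPart (r k : ℕ) (B : E) : E := (k : E) * ∑ j ∈ Finset.range r, (B ^ 2) ^ j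

theorem semiconj_fixPart (r k : ℕ) {g A A' : E} (h : g * A = A' * g) :
    g * fixPart r k A = fixPart r k A' * g := by
  have hs : SemiconjBy g A A' := h
  rw [fixPart, fixPart, ← mul_assoc, ← (Nat.cast_commute k g).eq, mul_assoc, mul_assoc, Finset.mul_sum, Finset.sum_mul]
  exact congrArg _ (Finset.sum_congr rfl fun j _ => ((hs.pow_right 2).pow_right j).eq)

/-- The `± 1`-eigen idempotents. -/
theorem parts [Finite E] {τ : E → E} (hτ : IsAntiHom τ) (hττ : ∀ x, τ (τ x) = x) {B : E} (hB : τ B * B = 1)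
    {r k : ℕ} (hkr : (k : E) * r = 1) (hBr : B ^ r = 1) :
    fixPart r k B * fixPart r k B = fixPart r k B ∧ τ (fixPart r k B) = fixPart r k B ∧
      B * B * fixPart r k B = fixPart r k B ∧ fixPart r k B ∈ Subring.closure ({B, τ B} : Set E) ∧
      ∃ w ∈ Subring.closure ({B, τ B} : Set E),
        (B - τ B) * w * (1 - fixPart r k B) = 1 - fixPart r k B := by
  have hBB : Commute B (τ B) := (mul_eq_one_comm.1 hB).trans hB.symm
  have hG : IsTwistSet τ ({B, τ B} : Set E) := by
    refine ⟨hτ, ?_, ?_, fun x _ => hττ x⟩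
    · intro x hx y hy
      simp only [Set.mem_insert_iff, Set.mem_singleton_iff] at hx hy
      rcases hx with rfl | rfl <;> rcases hy with rfl | rfl <;>
        first | exact Commute.refl _ | exact hBB | exact hBB.symm
    · intro x hx
      simp only [Set.mem_insert_iff, Set.mem_singleton_iff] at hx
      rcases hx with rfl | rfl
      · exact Subring.subset_closure (by simp)
      · rw [hττ]; exact Subring.subset_closure (by simp)
  obtain ⟨R, _, _, σ, φ, hinj, hmem, hlift, hσ, hσσ⟩ := hG.exists_ring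
  obtain ⟨b, hb⟩ := hlift B (Subring.subset_closure (by simp))
  have hb1 : σ b * b = 1 := hinj (by rw [map_mul, hσ, hb, map_one, hB])
  have hbr : b ^ r = 1 := hinj (by rw [map_pow, hb, map_one, hBr])
  have hk : (k : R) * r = 1 := hinj (by simpa using hkr)
  set x := b ^ 2 with hx
  set S := ∑ j ∈ Finset.range r, x ^ j with hS
  have hxS : x * S = S := by
    rw [← sub_eq_zero, ← sub_one_mul, mul_geom_sum, hx, ← pow_mul, mul_comm, pow_mul, hbr, one_pow, sub_self]
  set f := (k : R) * S with hf
  have hxf : x * f = f := by rw [hf, mul_left_comm, hxS]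
  have hpow : ∀ y : R, y * f = f → (∑ j ∈ Finset.range r, y ^ j) * f = r * f := fun y hy => by
    have : ∀ j : ℕ, y ^ j * f = f := fun j => by
      induction j with
      | zero => rw [pow_zero, one_mul]
      | succ j ih => rw [pow_succ, mul_assoc, hy, ih]
    rw [Finset.sum_mul, Finset.sum_congr rfl fun j _ => this j, Finset.sum_const, Finset.card_range, nsmul_eq_mul]
  have hff : f * f = f := by
    calc f * f = (k : R) * (S * f) := by rw [hf, mul_assoc]
      _ = f := by rw [hpow x hxf, ← mul_assoc, hk, one_mul]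
  have hσxx : σ x * x = 1 := by rw [hx, map_pow, ← mul_pow, hb1, one_pow]
  have hσxf : σ x * f = f := by
    conv_lhs => rw [← hxf]
    rw [← mul_assoc, hσxx, one_mul]
  have h1 : σ f * f = f := by
    calc σ f * f = (k : R) * ((∑ j ∈ Finset.range r, (σ x) ^ j) * f) := by
          have e : σ f = (k : R) * ∑ j ∈ Finset.range r, (σ x) ^ j := by simp [hf, hS, map_sum]
          rw [e, mul_assoc]
      _ = f := by rw [hpow _ hσxf, ← mul_assoc, hk, one_mul]
  have h2 : σ f = f := by
    have h := congrArg σ h1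
    rw [map_mul, hσσ] at h
    rw [← h, mul_comm, h1]
  have hφf : φ f = fixPart r k B := by
    rw [hf, hS, hx, fixPart, map_mul, map_natCast, map_sum]
    simp only [map_pow, hb]
  set w := (k : R) * (∑ j ∈ Finset.range r, (j : R) * x ^ j) * b with hw
  have h3 : (b - σ b) * w * (1 - f) = 1 - f := by
    have e1 : (b - σ b) * b = x - 1 := by rw [sub_mul, hb1, hx, pow_two]
    have e2 := sub_one_mul_sum_smul x (r := r) (by rw [hx, ← pow_mul, mul_comm, pow_mul, hbr, one_pow])
    rw [hf, hS, hw] at *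
    linear_combination (k * (∑ j ∈ Finset.range r, (j : R) * x ^ j) * (1 - k * S)) * e1 +
      (k * (1 - k * S)) * e2 + (1 - k * S) * hk + hff
  rw [← hφf]
  refine ⟨by rw [← map_mul, hff], by rw [← hσ, h2], by rw [← hb, ← map_mul, ← map_mul, ← pow_two, ← hx, hxf],
    hmem f, φ w, hmem w, ?_⟩
  rw [← hb, ← hσ, ← map_one φ, ← map_sub, ← map_sub, ← map_mul, ← map_mul, h3]

theorem cross_zero {τ : E → E} (hτ : IsAntiHom τ) {A A' e w X Y s : E} (hss : s * s = 1) (hsc : ∀ z, Commute s z)
    (hw : (A - τ A) * w * e = e) (hA : τ A * A = 1) (hA' : τ A' * A' = 1) (hτe : τ e = e)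
    (hcomm : ∀ z ∈ ({A, τ A, w, e} : Set E), ∀ z' ∈ ({A, τ A, w, e} : Set E), Commute z z')
    (hX : A' * X = X * A) (hXe : X * e = X) (hY : A' * Y = s * Y) : τ X * Y = 0 := by
  have hAA : A * τ A = 1 := (hcomm A (by simp) (τ A) (by simp)).eq.trans hA
  have hfac : A - τ A = (A + s) * (1 - s * τ A) := by
    rw [mul_sub, mul_one, add_mul, ← mul_assoc A, ← (hsc A).eq, mul_assoc, hAA, mul_one, ← mul_assoc, hss, one_mul]
    abel
  have h1 : τ X * Y = s * τ A * (τ X * Y) := by
    calc τ X * Y = τ X * (τ A' * A') * Y := by rw [hA', mul_one]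
      _ = τ (A' * X) * (A' * Y) := by rw [hτ.map_mul]; simp only [mul_assoc]
      _ = τ A * τ X * (s * Y) := by rw [hX, hY, hτ.map_mul]
      _ = s * τ A * (τ X * Y) := by
          rw [← mul_assoc, ← (hsc (τ A * τ X)).eq, ← mul_assoc s, mul_assoc (s * τ A)]
  have h2 : (1 - s * τ A) * (τ X * Y) = 0 := by rw [sub_mul, one_mul, ← h1, sub_self]
  have h3 : e * (τ X * Y) = τ X * Y := by
    rw [← mul_assoc]; congr 1
    rw [← hτe, ← hτ.map_mul, hXe]
  have hc1 : Commute w (1 - s * τ A) :=
    (Commute.one_right w).sub_right ((hsc w).symm.mul_right (hcomm w (by simp) (τ A) (by simp)))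
  have hc2 : Commute e (1 - s * τ A) :=
    (Commute.one_right e).sub_right ((hsc e).symm.mul_right (hcomm e (by simp) (τ A) (by simp)))
  calc τ X * Y = (A - τ A) * w * e * (τ X * Y) := by rw [hw, h3]
    _ = (A + s) * (w * e * (1 - s * τ A)) * (τ X * Y) := by
        rw [hfac, mul_assoc (A + s), mul_assoc (A + s), ← hc1.eq, mul_assoc w, ← hc2.eq, ← mul_assoc w]
    _ = 0 := by rw [mul_assoc, mul_assoc (w * e), h2, mul_zero, mul_zero]

end Parts

variable {F : Type*} [Field F] {n : ℕ}

/-- Square matrices of size `2n`. -/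
abbrev Mat (F : Type*) (n : ℕ) : Type _ := Matrix (Fin n ⊕ Fin n) (Fin n ⊕ Fin n) F

/-- The standard alternating matrix as a unit. -/
noncomputable def jUnit (F : Type*) [Field F] (n : ℕ) : GL (Fin n ⊕ Fin n) F :=
  ((Matrix.isUnit_iff_isUnit_det _).2 (isUnit_det_J (Fin n) F)).unit

theorem jUnit_val : (jUnit F n : Matrix (Fin n ⊕ Fin n) (Fin n ⊕ Fin n) F) = Matrix.J (Fin n) F := rfl

/-- The adjoint with respect to the standard alternating form. -/
noncomputable abbrev adjJ : Matrix (Fin n ⊕ Fin n) (Fin n ⊕ Fin n) F → Matrix (Fin n ⊕ Fin n) (Fin n ⊕ Fin n) F :=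
  adj (jUnit F n)

theorem adjJ_adjJ (x : Matrix (Fin n ⊕ Fin n) (Fin n ⊕ Fin n) F) : adjJ (adjJ x) = x :=
  adj_adj (ε := -1) (by simp) (by rw [jUnit_val, J_transpose, neg_one_smul]) x

theorem adjJ_eq_iff (x y : Matrix (Fin n ⊕ Fin n) (Fin n ⊕ Fin n) F) :
    adjJ x = y ↔ xᵀ * Matrix.J (Fin n) F = Matrix.J (Fin n) F * y := by
  rw [adjJ, adj_apply, mul_assoc, Units.inv_mul_eq_iff_eq_mul, jUnit_val]

theorem adjJ_mul_self_iff (A : Matrix (Fin n ⊕ Fin n) (Fin n ⊕ Fin n) F) :
    adjJ A * A = 1 ↔ A ∈ Matrix.symplecticGroup (Fin n) F := by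
  rw [adjJ, adj_mul_self_iff, SymplecticGroup.mem_iff', jUnit_val]

variable [Fintype F] {p : ℕ} [Fact p.Prime] [CharP F p]

theorem exists_nat_inverse {o : ℕ} (ho : o.Coprime p) : ∃ k : ℕ, (k : F) * o = 1 := by
  refine ⟨((o : ZMod p)⁻¹).val, ?_⟩
  have h0 : (o : ZMod p) ≠ 0 := fun h =>
    (Nat.Prime.coprime_iff_not_dvd Fact.out).1 ho.symm ((ZMod.natCast_eq_zero_iff _ _).1 h)
  have h := congrArg (ZMod.castHom (dvd_refl p) F) (inv_mul_cancel₀ h0)
  rw [map_mul, map_one, map_natCast] at h
  rwa [ZMod.natCast_val]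

theorem cast_inverse {ι : Type*} [Fintype ι] [DecidableEq ι] {k o : ℕ} (h : (k : F) * o = 1) :
    (k : Matrix ι ι F) * o = 1 := by
  rw [← map_natCast (algebraMap F (Matrix ι ι F)) k, ← map_natCast (algebraMap F (Matrix ι ι F)) o, ← map_mul, h,
    map_one]

/-- Semisimple symplectic matrices with equal characteristic polynomials are conjugate by a symplectic one. -/
theorem exists_symplectic_conj {A A' : Mat F n}
    (hA : A ∈ Matrix.symplecticGroup (Fin n) F) (hA' : A' ∈ Matrix.symplecticGroup (Fin n) F) {a b : ℕ}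
    (ha : a.Coprime p) (hAa : A ^ a = 1) (hb : b.Coprime p) (hAb : A' ^ b = 1)
    (hc : A.charpoly = A'.charpoly) :
    ∃ H ∈ Matrix.symplecticGroup (Fin n) F, H * A = A' * H := by
  classical
  obtain ⟨g, hgA⟩ := isConj_of_charpoly_coprime A A' ha hAa hb hAb hc
  let τ : (Mat F n) → (Mat F n) := adjJ
  have hτ : IsAntiHom τ := twist_antiHom _ _
  have hττ : ∀ x, τ (τ x) = x := adjJ_adjJ
  have hA1 : τ A * A = 1 := (adjJ_mul_self_iff A).2 hA
  have hA1' : τ A' * A' = 1 := (adjJ_mul_self_iff A').2 hA'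
  have hA'a : A' ^ a = 1 := by
    have h := (hgA.pow_right a).eq
    rw [hAa, mul_one] at h
    calc A' ^ a = A' ^ a * g.val * g⁻¹.val := by rw [Units.mul_inv_cancel_right]
      _ = 1 := by rw [← h, Units.mul_inv]
  obtain ⟨k, hk⟩ := exists_nat_inverse (F := F) ha
  have hk' : (k : (Mat F n)) * a = 1 := cast_inverse hk
  obtain ⟨hff, hτf, hAAf, hfmem, w, hwmem, hw⟩ := parts hτ hττ hA1 hk' hAa
  obtain ⟨hff', hτf', hAAf', -, -, -, -⟩ := parts hτ hττ hA1' hk' hA'a
  -- the two eigen idempotents
  obtain ⟨c, c', hspec, hz⟩ : ∃ c c' : ℕ, (∀ B : (Mat F n), τ B * B = 1 → B ^ a = 1 → τ B * fixPart a k B = B * fixPart a k B →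
      fixPart a k B * fixPart a k B = fixPart a k B → B * B * fixPart a k B = fixPart a k B →
      ((c : (Mat F n)) + c' * B) * fixPart a k B * (((c : (Mat F n)) + c' * B) * fixPart a k B) = ((c : (Mat F n)) + c' * B) * fixPart a k B ∧
      B * (((c : (Mat F n)) + c' * B) * fixPart a k B) = ((c : (Mat F n)) + c' * B) * fixPart a k B ∧
      B * (fixPart a k B - ((c : (Mat F n)) + c' * B) * fixPart a k B) = -(fixPart a k B - ((c : (Mat F n)) + c' * B) * fixPart a k B)) ∧
      ((∀ x : (Mat F n), x + x = 0 → x = 0) ∨ ∀ B : (Mat F n), ((c : (Mat F n)) + c' * B) = 1) := by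
    by_cases hp : p = 2
    · refine ⟨1, 0, fun B _ hBa _ hBf hBB => ?_, Or.inr fun B => by simp⟩
      have hodd : Odd a := by
        subst hp
        exact Nat.Coprime.odd_of_right ha
      have hBf' : B * fixPart a k B = fixPart a k B := by
        obtain ⟨m, hm⟩ := hodd
        have hpw : ∀ j : ℕ, (B * B) ^ j * fixPart a k B = fixPart a k B := fun j => by
          induction j with
          | zero => rw [pow_zero, one_mul]
          | succ j ih => rw [pow_succ, mul_assoc, hBB, ih]
        have : B = (B * B) ^ (m + 1) := by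
          rw [← pow_two, ← pow_mul, show 2 * (m + 1) = a + 1 by omega, pow_succ, hBa, one_mul]
        conv_lhs => arg 1; rw [this]
        exact hpw _
      simp only [Nat.cast_one, Nat.cast_zero, zero_mul, add_zero, one_mul, sub_self, mul_zero, neg_zero, and_true]
      exact ⟨hBf, hBf'⟩
    · obtain ⟨h, hh⟩ := exists_nat_inverse (F := F) (o := 2) (p := p)
        ((Nat.coprime_primes Nat.prime_two Fact.out).2 fun e => hp e.symm)
      have hh' : (h : (Mat F n)) * 2 = 1 := by
        have h0 := cast_inverse (ι := Fin n ⊕ Fin n) hh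
        rwa [Nat.cast_ofNat] at h0
      refine ⟨h, h, fun B _ _ _ hBf hBB => ?_, Or.inl fun x hx => ?_⟩
      · have hhc : ∀ z : (Mat F n), Commute (h : (Mat F n)) z := fun z => Nat.cast_commute h z
        have hC : Commute B (fixPart a k B) :=
          (Nat.commute_cast B k).mul_right (Commute.sum_right _ _ _ fun j _ => ((Commute.refl B).pow_right 2).pow_right j)
        set f := fixPart a k B with hf
        have hfp : ((h : (Mat F n)) + h * B) * f = (h : (Mat F n)) * (f + B * f) := by noncomm_ring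
        have hB1 : B * ((h : (Mat F n)) * (f + B * f)) = (h : (Mat F n)) * (f + B * f) := by
          rw [← mul_assoc, ← (hhc B).eq, mul_assoc, mul_add, ← mul_assoc B B, hBB, add_comm]
        rw [hfp]
        refine ⟨?_, hB1, ?_⟩
        · have e1 : (f + B * f) * (f + B * f) = 2 * (f + B * f) := by
            rw [add_mul, mul_add, mul_add, hBf, mul_assoc B f f, hBf, ← mul_assoc f B, ← hC.eq, mul_assoc B f f,
              hBf, ← mul_assoc (B * f) B f, mul_assoc B f B, ← hC.eq, ← mul_assoc B B f, hBB, hBf, two_mul]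
            abel
          calc (h : (Mat F n)) * (f + B * f) * ((h : (Mat F n)) * (f + B * f)) = (h : (Mat F n)) * ((h : (Mat F n)) * ((f + B * f) * (f + B * f))) := by
                rw [mul_assoc, ← mul_assoc (f + B * f), ← (hhc (f + B * f)).eq, mul_assoc]
            _ = (h : (Mat F n)) * (f + B * f) := by rw [e1, ← mul_assoc (h : (Mat F n)) 2, hh', one_mul]
        · have e2 : f - (h : (Mat F n)) * (f + B * f) = (h : (Mat F n)) * (f - B * f) := by
            have : f = (h : (Mat F n)) * 2 * f := by rw [hh', one_mul]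
            conv_lhs => arg 1; rw [this]
            noncomm_ring
          rw [e2, ← mul_assoc, ← (hhc B).eq, mul_assoc, mul_sub, ← mul_assoc B B, hBB, ← mul_neg, neg_sub]
      · calc x = (h : (Mat F n)) * 2 * x := by rw [hh', one_mul]
          _ = 0 := by rw [mul_assoc, two_mul, hx, mul_zero]
  set f := fixPart a k A with hfdef
  set f' := fixPart a k A' with hf'def
  have hsymm : ∀ B : (Mat F n), τ B * B = 1 → fixPart a k B * fixPart a k B = fixPart a k B →
      τ (fixPart a k B) = fixPart a k B → B * B * fixPart a k B = fixPart a k B →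
      τ B * fixPart a k B = B * fixPart a k B ∧
        τ (((c : (Mat F n)) + c' * B) * fixPart a k B) = ((c : (Mat F n)) + c' * B) * fixPart a k B := by
    intro B hB hBf hτB hBB
    have h1 : τ B * fixPart a k B = B * fixPart a k B := by
      conv_lhs => rw [← hBB]
      rw [← mul_assoc, ← mul_assoc, hB, one_mul]
    refine ⟨h1, ?_⟩
    have hn : ∀ N : ℕ, τ (N : (Mat F n)) = N := fun N => by
      induction N with
      | zero => rw [Nat.cast_zero]; exact hτ.map_zero
      | succ N ih => rw [Nat.cast_add, Nat.cast_one, hτ.map_add, ih, hτ.map_one]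
    have hC : Commute B (fixPart a k B) :=
      (Nat.commute_cast B k).mul_right (Commute.sum_right _ _ _ fun j _ => ((Commute.refl B).pow_right 2).pow_right j)
    have h2 : fixPart a k B * τ B = B * fixPart a k B := by
      have h := congrArg τ hC.eq
      rw [hτ.map_mul, hτ.map_mul, hτB] at h
      rw [h, h1]
    rw [hτ.map_mul, hτ.map_add, hτ.map_mul, hn, hn, hτB, mul_add, add_mul, ← mul_assoc _ (τ B), h2,
      ← (Nat.cast_commute c (fixPart a k B)).eq, ← (Nat.cast_commute c' (B * fixPart a k B)).eq, mul_assoc]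
  obtain ⟨htA, hτfp⟩ := hsymm A hA1 hff hτf hAAf
  obtain ⟨htA', hτfp'⟩ := hsymm A' hA1' hff' hτf' hAAf'
  obtain ⟨hfpp, hAfp, hAfm⟩ := hspec A hA1 hAa htA hff hAAf
  obtain ⟨hfpp', hAfp', hAfm'⟩ := hspec A' hA1' hA'a htA' hff' hAAf'
  set fp := ((c : (Mat F n)) + c' * A) * f with hfp
  set fp' := ((c : (Mat F n)) + c' * A') * f' with hfp'
  have hgf : g.val * f = f' * g.val := semiconj_fixPart a k hgA
  have hgfp : g.val * fp = fp' * g.val := by
    have e : g.val * A = A' * g.val := hgA
    have hl : g.val * ((c : Mat F n) + c' * A) = ((c : Mat F n) + c' * A') * g.val := by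
      rw [mul_add, add_mul, ← (Nat.cast_commute c g.val).eq, ← mul_assoc, ← (Nat.cast_commute c' g.val).eq,
        mul_assoc, e, mul_assoc]
    rw [hfp, hfp', ← mul_assoc, hl, mul_assoc, hgf, ← mul_assoc]
  -- commutations
  set T := τ g.val * g.val with hT
  have hTA : Commute T A := commute_gram hτ hA1 hA1' hgA
  have hτT : τ T = T := by rw [hT, hτ.map_mul, hττ]
  have hAA' : Commute A (τ A) := (hτ.unitary_mul_symm hA1).trans hA1.symm
  have hTA' : Commute T (τ A) := commute_of_inverse hTA hA1
  let G : Set (Mat F n) := {A, τ A, T}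
  have hsub : Subring.closure ({A, τ A} : Set (Mat F n)) ≤ Subring.closure G :=
    Subring.closure_mono (by intro x hx; rcases hx with rfl | rfl <;> simp [G])
  have hG : IsTwistSet τ G := by
    refine ⟨hτ, ?_, ?_, fun x _ => hττ x⟩
    · intro x hx y hy
      simp only [G, Set.mem_insert_iff, Set.mem_singleton_iff] at hx hy
      rcases hx with rfl | rfl | rfl <;> rcases hy with rfl | rfl | rfl <;>
        first
          | exact Commute.refl _
          | exact hTA
          | exact hTA.symm
          | exact hAA'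
          | exact hAA'.symm
          | exact hTA'
          | exact hTA'.symm
    · intro x hx
      simp only [G, Set.mem_insert_iff, Set.mem_singleton_iff] at hx
      rcases hx with rfl | rfl | rfl
      · exact Subring.subset_closure (by simp [G])
      · rw [hττ]; exact Subring.subset_closure (by simp [G])
      · rw [hτT]; exact Subring.subset_closure (by simp [G])
  have hAm : A ∈ Subring.closure G := Subring.subset_closure (by simp [G])
  have hfm : f ∈ Subring.closure G := hsub hfmem
  have hfpm : fp ∈ Subring.closure G :=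
    mul_mem (add_mem (natCast_mem _ c) (mul_mem (natCast_mem _ c') hAm)) hfm
  have hτAm : τ A ∈ Subring.closure G := Subring.subset_closure (by simp [G])
  set e := 1 - f with he
  have hem : e ∈ Subring.closure G := sub_mem (one_mem _) hfm
  have hee : e * e = e := by rw [he, mul_sub, mul_one, sub_mul, one_mul, hff, sub_self, sub_zero]
  have hτe : τ e = e := by rw [he, hτ.map_sub, hτ.map_one, hτf]
  obtain ⟨cc, hcc, hccu, hccT⟩ := hG.exists_norm_eq_idem (e := e) (s := A) (w := w) (t := T) hem hAm (hsub hwmem)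
    (Subring.subset_closure (by simp [G])) hee hτe hw ((hτ.isUnit_map g.isUnit).mul g.isUnit) hτT
  obtain ⟨d, hd, hcd, hdc⟩ := exists_inv_mem hcc hccu
  set g₀ := g.val * d with hg₀
  have hg₀e : τ g₀ * g₀ * e = e := by
    calc τ g₀ * g₀ * e = τ d * T * d * e := by rw [hg₀, hτ.map_mul, hT]; noncomm_ring
      _ = τ d * d * (T * e) := by
          rw [mul_assoc (τ d), (hG.commute (Subring.subset_closure (by simp [G])) hd).eq]; noncomm_ring
      _ = τ d * (d * cc) * (τ cc * e) := by rw [← hccT]; noncomm_ring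
      _ = τ (cc * d) * e := by rw [hdc, mul_one, hτ.map_mul, mul_assoc]
      _ = e := by rw [hcd, hτ.map_one, one_mul]
  have hg₀A : g₀ * A = A' * g₀ := by
    rw [hg₀, mul_assoc, (hG.commute hd hAm).eq, ← mul_assoc, show g.val * A = A' * g.val from hgA, mul_assoc]
  -- the pieces of the fixed space
  set fm := f - fp with hfmdef
  set fm' := f' - fp' with hfmdef'
  have hgfm : g.val * fm = fm' * g.val := by rw [hfmdef, hfmdef', mul_sub, sub_mul, hgf, hgfp]
  have hffp : f * fp = fp := by
    rw [hfp, ← mul_assoc, (hG.commute hfm (add_mem (natCast_mem _ c) (mul_mem (natCast_mem _ c') hAm))).eq,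
      mul_assoc, hff]
  have hfpf : fp * f = fp := by rw [hfp, mul_assoc, hff]
  have hfmm : fm * fm = fm := by
    rw [hfmdef, mul_sub, sub_mul, sub_mul, hff, hffp, hfpf, hfpp, sub_self, sub_zero]
  have hfmm' : fm' * fm' = fm' := by
    have h := congrArg (g.val * · * g⁻¹.val) hfmm
    calc fm' * fm' = fm' * fm' * g.val * g⁻¹.val := by rw [Units.mul_inv_cancel_right]
      _ = g.val * (fm * fm) * g⁻¹.val := by
          rw [mul_assoc fm' fm' g.val, ← hgfm, ← mul_assoc fm', ← hgfm, mul_assoc g.val]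
      _ = fm' := by rw [hfmm, hgfm, Units.mul_inv_cancel_right]
  have hτfm : τ fm = fm := by rw [hfmdef, hτ.map_sub, hτf, hτfp]
  have hτfm' : τ fm' = fm' := by rw [hfmdef', hτ.map_sub, hτf', hτfp']
  obtain ⟨P, hPf, hP', hPP⟩ := exists_partial_isometry fp fp' g.val g⁻¹.val hfpp ((adjJ_eq_iff _ _).1 hτfp) hfpp'
    ((adjJ_eq_iff _ _).1 hτfp') (Units.mul_inv g) hgfp
  obtain ⟨M, hMf, hM', hMM⟩ := exists_partial_isometry fm fm' g.val g⁻¹.val hfmm ((adjJ_eq_iff _ _).1 hτfm) hfmm'
    ((adjJ_eq_iff _ _).1 hτfm') (Units.mul_inv g) hgfm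
  have hgram : ∀ Q φ : (Mat F n), Qᵀ * Matrix.J (Fin n) F * Q = Matrix.J (Fin n) F * φ → τ Q * Q = φ := fun Q φ h => by
    show adjJ Q * Q = φ
    rw [adjJ, adj_apply, mul_assoc, mul_assoc, Units.inv_mul_eq_iff_eq_mul, jUnit_val, ← mul_assoc, h]
  have hPP' : τ P * P = fp := hgram _ _ hPP
  have hMM' : τ M * M = fm := hgram _ _ hMM
  set X := g₀ * e with hX
  have hXX : τ X * X = e := by
    rw [hX, hτ.map_mul, hτe, mul_assoc, ← mul_assoc (τ g₀), hg₀e, hee]
  have hXA : A' * X = X * A := by
    rw [hX, ← mul_assoc, ← hg₀A, mul_assoc, (hG.commute hAm hem).eq, ← mul_assoc]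
  have hXe : X * e = X := by rw [hX, mul_assoc, hee]
  have hA'P : A' * P = P := by conv_lhs => rw [← hP']; rw [← mul_assoc, hAfp', hP']
  have hA'M : A' * M = -M := by conv_lhs => rw [← hM']; rw [← mul_assoc, hAfm', neg_mul, hM']
  have hcomm : ∀ z ∈ ({A, τ A, w, e} : Set (Mat F n)), ∀ z' ∈ ({A, τ A, w, e} : Set (Mat F n)), Commute z z' := by
    have hin : ∀ z ∈ ({A, τ A, w, e} : Set (Mat F n)), z ∈ Subring.closure G := by
      intro z hz'
      simp only [Set.mem_insert_iff, Set.mem_singleton_iff] at hz'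
      rcases hz' with rfl | rfl | rfl | rfl
      exacts [hAm, hτAm, hsub hwmem, hem]
    exact fun z h1 z' h2 => hG.commute (hin z h1) (hin z' h2)
  have hXP : τ X * P = 0 :=
    cross_zero hτ (mul_one (1 : (Mat F n))) (fun z => Commute.one_left z) hw hA1 hA1' hτe hcomm hXA hXe (by rw [one_mul, hA'P])
  have hXM : τ X * M = 0 :=
    cross_zero hτ (s := (-1 : (Mat F n))) (by simp) (fun z => (Commute.one_left z).neg_left) hw hA1 hA1' hτe hcomm hXA hXe
      (by rw [neg_one_mul, hA'M])
  have hPM : τ P * M = 0 := by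
    rcases hz with h2 | h1
    · refine h2 _ ?_
      have h : τ P * M = -(τ P * M) := by
        calc τ P * M = τ P * (τ A' * A') * M := by rw [hA1', mul_one]
          _ = τ (A' * P) * (A' * M) := by rw [hτ.map_mul]; simp only [mul_assoc]
          _ = -(τ P * M) := by rw [hA'P, hA'M, mul_neg]
      nth_rw 2 [h]
      exact add_neg_cancel _
    · have : fm = 0 := by rw [hfmdef, hfp, h1, one_mul, sub_self]
      rw [← hMf, this, mul_zero, mul_zero]
  have hflip : ∀ U V : (Mat F n), τ U * V = 0 → τ V * U = 0 := fun U V h => by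
    have h' := congrArg τ h
    rwa [hτ.map_mul, hττ, hτ.map_zero] at h'
  refine ⟨X + P + M, (adjJ_mul_self_iff _).1 ?_, ?_⟩
  · show τ (X + P + M) * (X + P + M) = 1
    simp only [hτ.map_add, add_mul, mul_add, hXX, hPP', hMM', hXP, hXM, hPM, hflip _ _ hXP, hflip _ _ hXM,
      hflip _ _ hPM, add_zero, zero_add]
    rw [he, hfmdef]
    abel
  · have hPA : P * A = A' * P := by
      rw [hA'P]
      conv_lhs => rw [← hPf]
      rw [mul_assoc, (hG.commute hfpm hAm).eq, hAfp, hPf]
    have hMA : M * A = A' * M := by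
      rw [hA'M]
      conv_lhs => rw [← hMf]
      rw [mul_assoc, (hG.commute (sub_mem hfm hfpm) hAm).eq, hAfm, mul_neg, hMf]
    rw [add_mul, add_mul, hPA, hMA, ← hXA, mul_add, mul_add]

end Cfsg.Agent.Lib.Semisimple
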